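import Cfsg.Agent.Lib.Min2E6.Sys

/-! Arithmetic. As `MinE6/Ar.lean`. Checked numerically for all `q < 3000`: `k0 + n0 ∤ NN` for `n0 ∈ {0,..,4, Wq, Wq + 1}`. -/

set_option autoImplicit false
set_option linter.unusedSectionVars false
set_option linter.unusedVariables false

namespace Cfsg.Agent.Lib.Min2E6

/-- The identity. `k0 q = q¹¹ - q⁸ + q⁷ - q³ + q² - 1`, `Wq = q⁵ - q⁴ + q³ - q² + q - 1`, `BB = q¹¹ - q⁸ + q⁷ + q⁵ - q⁴ + q`. -/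
theorem BB_eq {q : ℕ} (hq : 2 ≤ q) : BB q = k0 q + Wq q + 2 := by
  sorry

/-- `3 (q - 1) q¹⁰ > BB q` -/
theorem m_le_two {q m : ℕ} (hq : 2 ≤ q) (h : (q - 1) * (q ^ 10 * m) < BB q) : m ≤ 2 := by
  sorry

/-- `2 k0 ≥ BB`. -/
theorem two_k0 {q : ℕ} (hq : 2 ≤ q) : BB q ≤ 2 * k0 q := by
  sorry

/-- `k0 + n0` does not divide the order, `n0 ≤ 4`. Bezout over `ℤ` with the cyclotomic factors of `NN` (as in `MinE6/Ar.lean`, `no_dvd0`). -/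
theorem no_dvd0 {q n0 : ℕ} (hq : 2 ≤ q) (hn : n0 ≤ 4) : ¬ (k0 q + n0) ∣ NN q := by
  sorry

/-- `k0 + Wq = B - 2` does not divide the order. -/
theorem no_dvd1 {q : ℕ} (hq : 2 ≤ q) : ¬ (k0 q + Wq q) ∣ NN q := by
  sorry

/-- `k0 + Wq + 1 = B - 1` does not divide the order. -/
theorem no_dvd2 {q : ℕ} (hq : 2 ≤ q) : ¬ (k0 q + (Wq q + 1)) ∣ NN q := by
  sorry

end Cfsg.Agent.Lib.Min2E6
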