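import Cfsg.Agent.Lib.Min2E6.Sys

/-! Field lemmas for `K = F_{q²}`, `φ t = t ^ q`. -/

set_option autoImplicit false
set_option linter.unusedSectionVars false
set_option linter.unusedVariables false

namespace Cfsg.Agent.Lib.Min2E6

open scoped Classical

variable {K : Type*} [Field K] [Fintype K] {φ : K ≃+* K} {q : ℕ}

theorem phi_phi (hQ : QF K φ q) (t : K) : φ (φ t) = t := by
  sorry

/-- The real elements. -/
theorem card_real (hQ : QF K φ q) : (Finset.univ.filter fun a : K => φ a = a).card = q := by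
  sorry

theorem trace_surj (hQ : QF K φ q) {a : K} (ha : φ a = a) : ∃ t, t + φ t = a := by
  sorry

theorem norm_surj (hQ : QF K φ q) {a : K} (ha : φ a = a) : ∃ t, t * φ t = a := by
  sorry

/-- Not identically zero: degree `≤ q < q²`. -/
theorem lin_ne (hQ : QF K φ q) {a : K} (b : K) (ha : a ≠ 0) : ∃ t, a * t + b * φ t ≠ 0 := by
  sorry

/-- Not identically zero: `c + a t + b φ t + d t φ t`, `d ≠ 0`, degree `q + 1 < q²` (when `q ≥ 2`: `q² > q + 1`). -/
theorem quad_ne (hQ : QF K φ q) (c a b : K) {d : K} (hd : d ≠ 0) : ∃ t, c + a * t + b * φ t + d * (t * φ t) ≠ 0 := by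
  sorry

end Cfsg.Agent.Lib.Min2E6
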