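import Cfsg.Agent.Lib.Min2E6.Fld

/-! The orbits of the Levi of the Siegel parabolic of `SU₆` on the characters of its radical: Hermitian `3 × 3` matrices. See `PLAN.md`, paragraph `Herm`. -/

set_option autoImplicit false
set_option linter.unusedSectionVars false
set_option linter.unusedVariables false

namespace Cfsg.Agent.Lib.Min2E6

open Module
open scoped Classical
open Cfsg.Agent.Lib.MinE6 (S3 compl3 mv pw gam rt reflB β₀)

variable {K : Type*} [Field K] {φ : K ≃+* K}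

/-- The invariance of a weight function on matrices. -/
structure InvH (φ : K ≃+* K) (p1 p2 : Fin 3 → Fin 3 → Fin 3 → Fin 3 → K) (n : (Fin 3 → Fin 3 → K) → ℕ) : Prop where
  A : ∀ i i', i ≠ i' → ∀ (t : K) h, n h = n (actH φ p1 p2 i i' t h)
  T : ∀ i i', i ≠ i' → ∀ (s : Kˣ) h, n h = n (fun a e => h a e * ((dd i i' s a : Kˣ) : K) * φ ((dd i i' s e : Kˣ) : K))
  re : ∀ h, n h ≠ 0 → ∀ a e, h e a = ((gamT (rH a e) : ℤ) : K) * φ (h a e)

/-- The support of `n` outside `0` has at least `(q-1)(q⁴+q²+1)` elements. PLAN.md, paragraph `Herm`. -/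
theorem herm_count [Fintype K] {q : ℕ} (hQ : QF K φ q) {p1 p2 : Fin 3 → Fin 3 → Fin 3 → Fin 3 → K}
    (h1s : ∀ i i' a e, i ≠ i' → a = i' → p1 i i' a e = 1 ∨ p1 i i' a e = -1)
    (h2s : ∀ i i' a e, i ≠ i' → e = i' → p2 i i' a e = 1 ∨ p2 i i' a e = -1)
    (h1z : ∀ i i' a e, a ≠ i' → p1 i i' a e = 0) (h2z : ∀ i i' a e, e ≠ i' → p2 i i' a e = 0)
    {n : (Fin 3 → Fin 3 → K) → ℕ} (hI : InvH φ p1 p2 n) {h₀ : Fin 3 → Fin 3 → K} (h0 : h₀ ≠ 0) (hn : n h₀ ≠ 0) :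
    Wq q ≤ ∑ h : Fin 3 → Fin 3 → K, (if h ≠ 0 then n h else 0) := by
  sorry

end Cfsg.Agent.Lib.Min2E6
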