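import Cfsg.Agent.Lib.Min2E6.Basic
import Cfsg.Agent.Lib.Min2E6.Fld

/-! The weights in the fixed vectors of `x 71`: invariance, the first numerical relations.
Port of `MinE6/Inv.lean` (read its proofs). Differences: `x r` is additive on `K`; a weight of `x r` with `ρ r = r` is real (`wt_real`). -/

set_option autoImplicit false
set_option linter.unusedSectionVars false
set_option linter.unusedVariables false

namespace Cfsg.Agent.Lib.Min2E6

open Module
open scoped Classical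
open Cfsg.Agent.Lib.MinE6 (S3 compl3 mv pw gam rt reflB β₀)

variable {K : Type*} [Field K] {φ : K ≃+* K} {Γ : Type*} [Group Γ] {V : Type*} [AddCommGroup V] [Module ℂ V]
variable {S : SysT K φ Γ} {ρ : Representation ℂ Γ V} {ψ : AddChar K ℂ}

/-- The invariance of a weight function. -/
structure InvT (φ : K ≃+* K) (sg : Fin 6 → Fin 6 → S3 → K) (n : (S3 → K) → ℕ) : Prop where
  A : ∀ i j, i ≠ j → ∀ (t : K) c, n c = n (actT φ sg i j t c)
  torus : ∀ i (s : Kˣ), φ (s : K) = s → ∀ c, n c = n (fun T => c T * ((s ^ pw i i.rev T : Kˣ) : K))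
  re : ∀ c, n c ≠ 0 → ∀ T, c (sig T) = ((gamT (gam T) : ℤ) : K) * φ (c T)

/-- `ψ` is `φ`-invariant: `φ t - t` has trace zero. -/
theorem good_phi (hψ : GoodChar φ ψ) (hφ2 : ∀ t, φ (φ t) = t) (t : K) : ψ (φ t) = ψ t := by
  sorry

/-- Nondegeneracy: if `ψ (a * u) = 1` for all `u` then `a = 0` (`ψ ≠ 1`). -/
theorem good_nondeg (hψ : GoodChar φ ψ) {a : K} (h : ∀ u, ψ (a * u) = 1) : a = 0 := by
  sorry

/-- `x (rt i j) t` moves `c` by `actT` (relations `lt`, `lu`: for `v ∈ Wt (clist c)`: `x(gam T)(u) z v = z (z⁻¹ x(gam T)(u) z) v`; the inverse `x (rt i j) (-t)` moves back, `actT (-t) (actT t c) = c` by `sg_comm`), `hl i s` by the scaling, `re` by `red`: `x (gam (sig T)) t = x (gam T) (γ * φ t)`, `good_phi`, `good_nondeg`. -/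
theorem inv_nf [FiniteDimensional ℂ V] (hφ2 : ∀ t, φ (φ t) = t) (hψ : GoodChar φ ψ) : InvT φ S.sg (nfE S ρ ψ) := by
  sorry

/-- A weight of `x 71` is real (`red 71`, `good_phi`, `good_nondeg`). Likewise for any `r` with `ρ r = r`. -/
theorem wt_real [FiniteDimensional ℂ V] (hφ2 : ∀ t, φ (φ t) = t) (hψ : GoodChar φ ψ) {r : ℕ} (hr : r < 72) (hrr : rhoT r = r) {a : K} (ha : φ a ≠ a) :
    wr S ρ ψ [(r, a)] = 0 := by
  sorry

/-- `h_β` permutes the nontrivial characters of `x 71` (`hb_th`). -/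
theorem dz_eq [FiniteDimensional ℂ V] {l : K} (hl : l ≠ 0) (hlr : φ l = l) (hφ2 : ∀ t, φ (φ t) = t) : wr S ρ ψ [(71, l)] = wr S ρ ψ [(71, 1)] := by
  sorry

/-- `dim V^{x 71} = ∑ nfE c`: the `x (gam T)` commute on `V^{x 71}` (`uu`, `uc`, `red`: the two exceptional partners act through `x 71`), iterate `wr_cons` on the list of the `T`. -/
theorem dz_zero [Fintype K] [FiniteDimensional ℂ V] (hψ : GoodChar φ ψ) :
    wr S ρ ψ [(71, 0)] = ∑ c : S3 → K, nfE S ρ ψ c := by
  sorry

/-- `dim V = dim V^{x 71} + (q - 1) d` (`finrank_eq_sum_x`, `wt_real`, `dz_eq`; the real nonzero elements: `q - 1`, `card_real`). -/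
theorem k_eq_z [Fintype K] [FiniteDimensional ℂ V] {q : ℕ} (hQ : QF K φ q) (hψ : GoodChar φ ψ) :
    finrank ℂ V = wr S ρ ψ [(71, 0)] + (q - 1) * wr S ρ ψ [(71, 1)] := by
  sorry

/-- `dim V = ∑ nfE c + (q - 1) d`. -/
theorem k_eq [Fintype K] [FiniteDimensional ℂ V] {q : ℕ} (hQ : QF K φ q) (hψ : GoodChar φ ψ) :
    finrank ℂ V = (q - 1) * wr S ρ ψ [(71, 1)] + ∑ c : S3 → K, nfE S ρ ψ c := by
  rw [k_eq_z (S := S) (ρ := ρ) hQ hψ, dz_zero (S := S) (ρ := ρ) hψ, add_comm]

/-- `q¹⁰ ∣ d`: take the ten `T` with `|T ∩ {0,1,2}| ≥ 2` (a Lagrangian: `sig`-invariant, no two complementary nor with `T' = sig Tᶜ`): the `x (gam T)` commute pairwise, and `x (gam Tᶜ)` permutes the characters of `x (gam T)` on `Wt [(71, 1), ...]` by `uc`: the shift is `eps T * t` for a short `T` (all of `K`, `q²` characters, and the partner `sig T` adds nothing by `red`), `eps T * (t + φ t)` for a long `T` (real, `q` characters). So `d = q¹⁰ m`, `m` = dimension of the common kernel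 (1+3 long, 3 short pairs: `q^(1+3+6)`).
Also the relation `E0` (as in `MinE6.exists_m`) for each long `T`: `x (gam T)` is conjugate to `x 71` (`lconj`), so `dim V - dim V^{x (gam T)} = (q-1) d`; `x (gam Tᶜ)` permutes the `q` characters of `x (gam T)` on the nontrivial characters of `x 71`. -/
theorem exists_m [Fintype K] [FiniteDimensional ℂ V] {q : ℕ} (hQ : QF K φ q) (hψ : GoodChar φ ψ) :
    ∃ m, wr S ρ ψ [(71, 1)] = q ^ 10 * m ∧ ∀ T : S3, sig T = T →
      ∑ c : S3 → K, (if c T ≠ 0 then nfE S ρ ψ c else 0) = (q - 1) * q ^ 9 * m := by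
  sorry

/-- `x 71` acts nontrivially: otherwise the kernel of `ρ` contains it, so it is everything (`thgen`), contradiction with `NoFix`, `Nontrivial V`. Then a nontrivial real character occurs (`wt_real`, `k_eq_z`), and `dz_eq`. -/
theorem d_pos [Fintype K] [FiniteDimensional ℂ V] {q : ℕ} (hQ : QF K φ q) (hψ : GoodChar φ ψ) (hfix : NoFix S ρ) (hV : Nontrivial V) : 0 < wr S ρ ψ [(71, 1)] := by
  sorry

end Cfsg.Agent.Lib.Min2E6
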