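import Cfsg.Agent.Lib.Min2E6.Inv

/-! Pure combinatorics on the real weights: the support of an invariant function consists of the pure vectors. See `PLAN.md`, paragraph `Pure`. -/

set_option autoImplicit false
set_option linter.unusedSectionVars false
set_option linter.unusedVariables false

namespace Cfsg.Agent.Lib.Min2E6

open Module
open scoped Classical
open Cfsg.Agent.Lib.MinE6 (S3 compl3 mv pw gam rt reflB β₀)

variable {K : Type*} [Field K] [Fintype K] {φ : K ≃+* K} {sg : Fin 6 → Fin 6 → S3 → K} {n : (S3 → K) → ℕ}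

/-- The structure theorem. PLAN.md, paragraph `Pure`. -/
theorem pure_thm {q : ℕ} (hQ : QF K φ q) (hsg : ∀ i j T, sg i j T = 1 ∨ sg i j T = -1)
    (hcomm : ∀ i j T, i ≠ j → s1 sg i j T * s2 sg i j (mv i j T) = s2 sg i j T * s1 sg i j (mv j.rev i.rev T))
    (hI : InvT φ sg n) {m : ℕ} (hm : 0 < m) (hm2 : m ≤ 2)
    (hE : ∀ T : S3, sig T = T → ∑ c : S3 → K, (if c T ≠ 0 then n c else 0) = (q - 1) * q ^ 9 * m) :
    (∀ T : S3, sig T = T → ∀ a : K, a ≠ 0 → φ a = a → n (Pi.single T a) = m) ∧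
    ∑ c : S3 → K, (if c ≠ 0 then n c else 0) = m * ((q - 1) * gaussT q) := by
  sorry

end Cfsg.Agent.Lib.Min2E6
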