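import Cfsg.Agent.Lib.Min2E6.Red
import Cfsg.Agent.Lib.OddDeg.Form

/-! The fixed vectors of `U` when `L` acts trivially on them: at most four of them. Port of `MinE6/R4.lean` (read its proofs): the only change is that `x 46 u = xE 46 (u + φ u)`; `h_β(c)` only for real `c`; `x 25 w` is trivial when `w + φ w = 0`, and for `a = w + φ w ≠ 0`, `c = -a⁻¹`, choosing `a₁ + φ a₁ = a⁻¹`, `c₁ + φ c₁ = c`, `c₂ + φ c₂ = -c⁻¹`: `x 25 w = x 46 a₁ (x 46 c₁ x 25 c₂ x 46 c₁) x 46 a₁` (`fix_tr`). -/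

set_option autoImplicit false
set_option linter.unusedSectionVars false
set_option linter.unusedVariables false

namespace Cfsg.Agent.Lib.Min2E6

open Module
open scoped Classical
open Cfsg.Agent.Lib.OddDeg
open Cfsg.Agent.Lib.MinE6 (S3 compl3 mv pw gam rt reflB β₀)

variable {K : Type*} [Field K] {φ : K ≃+* K} {Γ : Type*} [Group Γ] {V : Type*} [AddCommGroup V] [Module ℂ V]
variable {S : SysT K φ Γ} {ρ : Representation ℂ Γ V} {ψ : AddChar K ℂ}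

/-- `R = V^U`. -/
noncomputable abbrev RR (S : SysT K φ Γ) (ρ : Representation ℂ Γ V) (ψ : AddChar K ℂ) : Submodule ℂ V := Wt S ρ ψ (clist 0)

/-- `L` acts trivially on `R`. -/
def LTriv (S : SysT K φ Γ) (ρ : Representation ℂ Γ V) (ψ : AddChar K ℂ) : Prop :=
  ∀ i j, i ≠ j → ∀ a, ∀ v ∈ RR S ρ ψ, ρ (S.x (rt i j) a) v = v

/-- The projection on the character `l` of `x 46`. -/
noncomputable def pil (S : SysT K φ Γ) (ρ : Representation ℂ Γ V) (ψ : AddChar K ℂ) [Fintype K] (l : K) (y : V) : V :=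
  (Fintype.card K : ℂ)⁻¹ • ∑ u : K, ψ (-(l * u)) • ρ (S.x 46 u) y

section
variable [Fintype K] [FiniteDimensional ℂ V]

/-- `h_β` stabilises `R`. -/
theorem hb_RR {v : V} (hv : v ∈ RR S ρ ψ) (c : Kˣ) (hc : φ (c : K) = c) : ρ (S.hb c) v ∈ RR S ρ ψ := by
  sorry

/-- For `v ∈ R`, if `L` is trivial on `R`: `n v` is fixed by `x 71` and the `x (gam T)`, `T ≠ β₀`. By `nb_conj`: `reflB` sends `71` and those `gam T` into the set of the `gam T`, the `rt i j` (`decide`), and `v` is fixed by them. -/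
theorem nb_fix (hL : LTriv S ρ ψ) {v : V} (hv : v ∈ RR S ρ ψ) : (∀ u, ρ (S.x 71 u) (ρ S.nb v) = ρ S.nb v) ∧
    ∀ T, T ≠ β₀ → ∀ u, ρ (S.x (gam T) u) (ρ S.nb v) = ρ S.nb v := by
  sorry

/-- The projection of `n v` on a character `l` of `x 46` is in `Wt (clist (single β₀ l))`. So two of them are proportional (for `l ≠ 0`). -/
theorem pil_mem (hψ : GoodChar φ ψ) (hL : LTriv S ρ ψ) {v : V} (hv : v ∈ RR S ρ ψ) (l : K) : pil S ρ ψ l (ρ S.nb v) ∈ Wt S ρ ψ (clist (Pi.single β₀ l)) := by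
  sorry

/-- A nonzero projection has a real `l` (`fix_tr`, `good_nondeg`). -/
theorem pil_real (hφ2 : ∀ t, φ (φ t) = t) (hψ : GoodChar φ ψ) (l : K) (y : V) (h : pil S ρ ψ l y ≠ 0) : φ l = l := by
  sorry

/-- If `π_l (n v) = 0` for all `l ≠ 0` and `L` is trivial on `R`, then `n v` is in `R`, and it is fixed by `x 46`, `x 25` (`n⁻¹ x 25 n = x 46 (η ·)`) and `L`: `v = 0` by `NoFix`. -/
theorem pil_ne (hψ : GoodChar φ ψ) (hfix : NoFix S ρ) (hL : LTriv S ρ ψ) {v : V} (hv : v ∈ RR S ρ ψ) (hv0 : v ≠ 0) : ∃ l : K, l ≠ 0 ∧ pil S ρ ψ l (ρ S.nb v) ≠ 0 := by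
  sorry

/-- For an eigenvector `v` of all `h_β(s)` (`s` real): `π_l (n v) ≠ 0` implies `π_{l s²} (n v) ≠ 0` (`h_β(s) π_l(y) = π_{l s⁻²}(h_β(s) y)`, `h_β(s) n v = n h_β(s⁻¹) v`). -/
theorem pil_sq (hψ : GoodChar φ ψ) {v : V} (hev : ∀ c : Kˣ, φ (c : K) = c → ∃ z : ℂ, ρ (S.hb c) v = z • v) {l : K} (hl : pil S ρ ψ l (ρ S.nb v) ≠ 0) (s : Kˣ) (hs : φ (s : K) = s) :
    pil S ρ ψ (l * (s : K) ^ 2) (ρ S.nb v) ≠ 0 := by
  sorry

/-- The orthogonality. Let `v₁, v₂ ∈ R`, `v₂` an eigenvector of `h_β`, `v₂ ⟂ v₁`, `v₂ ⟂ π₀(n v₁)`. Then `⟨π_l (n v₁), π_l (n v₂)⟩ = 0`, as in `MinE6.pil_orth`: with `a = w + φ w`. -/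
theorem pil_orth (hψ : GoodChar φ ψ) (I : IH ρ) {v₁ v₂ : V} (h1 : v₁ ∈ RR S ρ ψ) (h2 : v₂ ∈ RR S ρ ψ) (hev : ∀ c : Kˣ, φ (c : K) = c → ∃ z : ℂ, ρ (S.hb c) v₂ = z • v₂)
    (h12 : I.B v₁ v₂ = 0) (h0 : I.B (pil S ρ ψ 0 (ρ S.nb v₁)) v₂ = 0) (l : K) :
    I.B (pil S ρ ψ l (ρ S.nb v₁)) (pil S ρ ψ l (ρ S.nb v₂)) = 0 := by
  sorry

/-- A subspace of `R` of positive dimension orthogonal to eigenvectors contains an eigenvector of `h_β`: let `E` be a finite set of eigenvectors, `dim R > |E|`; `R ∩ E^⟂` is nonzero and stable under the cyclic group `h_β(F₀ˣ)`. -/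
theorem exists_eigen_perp (hφ2 : ∀ t, φ (φ t) = t) (I : IH ρ) (E : Finset V) (hE : ∀ e ∈ E, ∀ c : Kˣ, φ (c : K) = c → ∃ z : ℂ, ρ (S.hb c) e = z • e) (hd : E.card < wr S ρ ψ (clist 0)) :
    ∃ v ∈ RR S ρ ψ, v ≠ 0 ∧ (∀ c : Kˣ, φ (c : K) = c → ∃ z : ℂ, ρ (S.hb c) v = z • v) ∧ ∀ e ∈ E, I.B e v = 0 := by
  sorry

/-- `π₀(n v)` is an eigenvector of `h_β` and lies in `R` if `v` is an eigenvector in `R` and `L` is trivial on `R`. -/
theorem pil0_eigen (hψ : GoodChar φ ψ) (hL : LTriv S ρ ψ) {v : V} (hv : v ∈ RR S ρ ψ) (hev : ∀ c : Kˣ, φ (c : K) = c → ∃ z : ℂ, ρ (S.hb c) v = z • v) :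
    pil S ρ ψ 0 (ρ S.nb v) ∈ RR S ρ ψ ∧ ∀ c : Kˣ, φ (c : K) = c → ∃ z : ℂ, ρ (S.hb c) (pil S ρ ψ 0 (ρ S.nb v)) = z • pil S ρ ψ 0 (ρ S.nb v) := by
  sorry

/-- `n0 ≤ 4`. Otherwise, using `exists_eigen_perp` with `E = ∅`, `{v₁, π₀ n v₁}`, `{v₁, π₀ n v₁, v₂, π₀ n v₂}`, get eigenvectors `v₁, v₂, v₃ ∈ R`, nonzero. By `pil_orth`, `pil_mem`, `hl` (lines of dimension one), for `i < j` and each real `l ≠ 0`: `π_l (n v_i) = 0` or `π_l (n v_j) = 0`.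
By `pil_ne`, `pil_real` get real `l_i ≠ 0` with `π_{l_i} (n v_i) ≠ 0`. Two of `l₁, l₂, l₃` differ by a square of the real units (index of the squares at most 2), which contradicts `pil_sq`. -/
theorem R_le_four [Finite Γ] {q : ℕ} (hQ : QF K φ q) (hψ : GoodChar φ ψ) (hfix : NoFix S ρ) (hL : LTriv S ρ ψ) (hl : ∀ a : K, a ≠ 0 → φ a = a → nfE S ρ ψ (Pi.single β₀ a) = 1) : wr S ρ ψ (clist 0) ≤ 4 := by
  sorry

end

end Cfsg.Agent.Lib.Min2E6
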