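import Cfsg.Agent.Lib.Min2E6.Pure

/-! The reduction when `k < B`. -/

set_option autoImplicit false
set_option linter.unusedSectionVars false
set_option linter.unusedVariables false

namespace Cfsg.Agent.Lib.Min2E6

open Module
open scoped Classical
open Cfsg.Agent.Lib.MinE6 (S3 compl3 mv pw gam rt reflB β₀)

variable {K : Type*} [Field K] {φ : K ≃+* K} {Γ : Type*} [Group Γ] {V : Type*} [AddCommGroup V] [Module ℂ V]
variable {S : SysT K φ Γ} {ρ : Representation ℂ Γ V} {ψ : AddChar K ℂ}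

/-- If `k < B` then `d = q¹⁰`, the lines have dimension one, `k = k0 + dim V^U`. From `exists_m`, `d_pos`, `k_eq`, `inv_nf`, `pure_thm`: `(q - 1) q¹⁰ m ≤ k < B` gives `m ≤ 2`; `k = m k0 + n0`; `2 k0 ≥ B` gives `m = 1`. (As `MinE6.red`.) -/
theorem red [Fintype K] [FiniteDimensional ℂ V] {q : ℕ} (hQ : QF K φ q) (hψ : GoodChar φ ψ) (hfix : NoFix S ρ) (hV : Nontrivial V) (hk : finrank ℂ V < BB q) :
    (∀ a : K, a ≠ 0 → φ a = a → nfE S ρ ψ (Pi.single β₀ a) = 1) ∧ finrank ℂ V = k0 q + wr S ρ ψ (clist 0) := by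
  sorry

end Cfsg.Agent.Lib.Min2E6
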