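import Cfsg.Agent.Lib.Min2E6.R4
import Cfsg.Agent.Lib.Min2E6.Herm

/-! The fixed vectors of `U` when `L` acts nontrivially on them: at least `(q-1)(q⁴+q²+1)`. No homomorphism from `SU₆` is needed. -/

set_option autoImplicit false
set_option linter.unusedSectionVars false
set_option linter.unusedVariables false

namespace Cfsg.Agent.Lib.Min2E6

open Module
open scoped Classical
open Cfsg.Agent.Lib.MinE6 (S3 compl3 mv pw gam rt reflB β₀)

variable {K : Type*} [Field K] {φ : K ≃+* K} {Γ : Type*} [Group Γ] {V : Type*} [AddCommGroup V] [Module ℂ V]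
variable {S : SysT K φ Γ} {ρ : Representation ℂ Γ V} {ψ : AddChar K ℂ}

/-- `x (rt i j) t`, `hk`, `wL` stabilise `R = Wt (clist 0)`: `inv_nf`-type computation, `actT` fixes `0`; `lu`, `lt`, `w_gam`, `w_th`, `hk_gam`, `hk_th`. -/
theorem rt_RR (hφ2 : ∀ t, φ (φ t) = t) (hψ : GoodChar φ ψ) {i j : Fin 6} (hij : i ≠ j) (t : K) {v : V} (hv : v ∈ RR S ρ ψ) : ρ (S.x (rt i j) t) v ∈ RR S ρ ψ := by
  sorry

theorem wL_RR {i j : Fin 6} (hij : i ≠ j) {v : V} (hv : v ∈ RR S ρ ψ) : ρ (S.wL i j) v ∈ RR S ρ ψ ∧ ρ (S.wL i j)⁻¹ v ∈ RR S ρ ψ := by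
  sorry

theorem hk_RR {i i' : Fin 3} (hii : i ≠ i') (s : Kˣ) {v : V} (hv : v ∈ RR S ρ ψ) : ρ (S.hk i i' s) v ∈ RR S ρ ψ := by
  sorry

/-- `nfH` is invariant: `x (rt (ix i) (ix i')) t` moves `h` by `actH` (`lr`; inverse by `p_comm`), `hk i i' s` by the scaling (`hk_rH`), reality by `red` (`ρ (rH a e) = rH e a`: `rhoT_rt`, `Fin.rev_rev`), `good_phi`, `good_nondeg`. -/
theorem inv_nH [FiniteDimensional ℂ V] (hφ2 : ∀ t, φ (φ t) = t) (hψ : GoodChar φ ψ) : InvH φ S.p1 S.p2 (nfH S ρ ψ) := by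
  sorry

/-- `dim R = ∑ nfH h` (`lrc`, `rt_RR`, iterate `wr_cons` on the list of the pairs). -/
theorem dr_eq [Fintype K] [FiniteDimensional ℂ V] (hφ2 : ∀ t, φ (φ t) = t) (hψ : GoodChar φ ψ) : wr S ρ ψ (clist 0) = ∑ h : Fin 3 → Fin 3 → K, nfH S ρ ψ h := by
  sorry

/-- If `N` acts trivially on `R`, so does `L`: for `j = rev e`: `x (rt j i)` by `w_rt`, `wL_RR` (`x (rt j (ix i)) t = wL (x (rH i e) (±t)) wL⁻¹`); `x (rt (ix i) (ix i'))` by `cm` and `rt_RR`; `x (rt (rev i') (rev i))` by `red`. All `(i, j)`: `i, j < 3`, or `i, j ≥ 3`, or mixed. -/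
theorem ltriv_of [Fintype K] [FiniteDimensional ℂ V] (hφ2 : ∀ t, φ (φ t) = t) (hψ : GoodChar φ ψ) (h : ∀ a e u, ∀ v ∈ RR S ρ ψ, ρ (S.x (rH a e) u) v = v) : LTriv S ρ ψ := by
  sorry

/-- If `L` is nontrivial on `R` then some `h ≠ 0` has `nfH h ≠ 0` (`ltriv_of`, `dr_eq`: `nfH 0 = dim R` otherwise), and `herm_count`, `dr_eq`. -/
theorem R_large [Fintype K] [FiniteDimensional ℂ V] {q : ℕ} (hQ : QF K φ q) (hψ : GoodChar φ ψ) (hL : ¬ LTriv S ρ ψ) :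
    Wq q ≤ wr S ρ ψ (clist 0) := by
  sorry

end Cfsg.Agent.Lib.Min2E6
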