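import Cfsg.Agent.Lib.MinE6.Sys

/-!
# Abstract relations of `²E₆(q)` and the weight spaces of a representation

`K = F_{q²}`, `φ t = t^q`.  Notation as in `MinE6` (`rt`, `gam`, `mv`, `β₀`, ...).  `rhoT`, `gamT`: the tables `Se.ρ`, `Se.γ` of `Lib/Twisted/E6`
(`S1081.rhoE6`, `S1081.gamE6`): the graph automorphism is `x_r(t) ↦ x_{ρ r}(γ r t)`.

The root elements of `Γ = ²E₆(q)` are, for every root `r` (all 72), `x r t = xE r t * xE (ρ r) (γ r * φ t)`, `t ∈ K` (`xE` = root element of `E₆(K)`).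
`ρ (gam T) = gam (sig T)`, `sig T = (rev T)ᶜ`;  `ρ (rt i j) = rt (rev j) (rev i)`;  `ρ 71 = 71`, `ρ 46 = 46`, `ρ 25 = 25`.  For `ρ r = r`: `γ r = 1` and `x r t = xE r (t + φ t)`.
`sig T = T` (`T` *long*) for the 8 sets containing one element of each pair `{i, rev i}`.
-/

set_option autoImplicit false
set_option linter.unusedSectionVars false
set_option linter.unusedVariables false

namespace Cfsg.Agent.Lib.Min2E6

open Module
open Cfsg.Agent.Lib.MinE6 (S3 compl3 mv pw gam rt reflB β₀)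

/-- The image of `T` under `rev`. -/
def barS (T : S3) : S3 := ⟨T.1.map (Fin.revPerm).toEmbedding, by
  rw [Finset.card_map, T.2]⟩

/-- The graph automorphism on 3-subsets. -/
def sig (T : S3) : S3 := compl3 (barS T)

/-- The permutation of the roots. -/
def rhoL : List ℕ := [0, 1, 2, 5, 16, 3, 6, 17, 8, 19, 22, 11, 26, 30, 33, 35, 4, 7, 18, 9, 20, 23, 10, 21, 24, 25, 12, 27, 31, 34, 13, 28, 32, 14, 29, 15, 56, 42, 57, 39, 43, 58, 37, 40, 44, 59, 46, 47, 50, 61, 48, 51, 62, 53, 64, 67, 36, 38, 41, 45, 60, 49, 52, 63, 54, 65, 68, 55, 66, 69, 70, 71]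

/-- The signs. -/
def gamL : List ℤ := [1, 1, 1, 1, -1, 1, 1, -1, 1, -1, -1, 1, -1, 1, -1, 1, -1, -1, 1, -1, 1, 1, -1, 1, 1, 1, -1, 1, -1, 1, 1, -1, 1, -1, 1, 1, 1, 1, -1, 1, -1, 1, 1, -1, 1, -1, 1, 1, 1, -1, 1, 1, -1, 1, -1, -1, 1, -1, 1, -1, 1, -1, -1, 1, -1, 1, 1, -1, 1, 1, 1, 1]

/-- The permutation of the roots. -/
def rhoT (r : ℕ) : ℕ := rhoL.getD r r

/-- The sign of the graph automorphism. -/
def gamT (r : ℕ) : ℤ := gamL.getD r 1

theorem rhoT_gam : ∀ T : S3, rhoT (gam T) = gam (sig T) := by decide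
theorem rhoT_rt : ∀ i j : Fin 6, i ≠ j → rhoT (rt i j) = rt j.rev i.rev := by decide
theorem gamT_long : ∀ T : S3, sig T = T → gamT (gam T) = 1 := by decide
theorem gamT_rt_long : ∀ i : Fin 6, gamT (rt i i.rev) = 1 := by decide
theorem gamT_sig : ∀ T : S3, gamT (gam (sig T)) = gamT (gam T) := by decide

section
variable {K : Type*} [Field K]

/-- `u + φ u` for a long `T`, `u` otherwise. -/
def lg (φ : K ≃+* K) (T : S3) (u : K) : K := if sig T = T then u + φ u else u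

/-- The coefficient of `x (gam (T - j + i))`. -/
def s1 (sg : Fin 6 → Fin 6 → S3 → K) (i j : Fin 6) (T : S3) : K := if j ∈ T.1 ∧ i ∉ T.1 then sg i j T else 0

/-- The coefficient of `x (gam (T - rev i + rev j))`. -/
def s2 (sg : Fin 6 → Fin 6 → S3 → K) (i j : Fin 6) (T : S3) : K :=
  if i.rev ∈ T.1 ∧ j.rev ∉ T.1 then ((gamT (rt i j) : ℤ) : K) * sg j.rev i.rev T else 0

/-- The action of `x (rt i j) t` on the weights of `U` (see `lu`): the composition of the moves by `(i, j)` and `(rev j, rev i)`. -/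
def actT (φ : K ≃+* K) (sg : Fin 6 → Fin 6 → S3 → K) (i j : Fin 6) (t : K) (c : S3 → K) : S3 → K :=
  fun T => c T + s1 sg i j T * t * c (mv i j T) + s2 sg i j T * φ t * c (mv j.rev i.rev T)
    + s1 sg i j T * s2 sg i j (mv i j T) * (t * φ t) * c (mv j.rev i.rev (mv i j T))

/-- The first three indices. -/
def ix (a : Fin 3) : Fin 6 := ⟨a.val, by omega⟩

/-- The roots of the Siegel radical `N` of `L = SU₆`: `h a e` (`a, e < 3`) is the coordinate at `rt a (rev e)`. The pair `(a, e)`, `(e, a)` is swapped by `ρ`. -/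
def rH (a e : Fin 3) : ℕ := rt (ix a) (ix e).rev

/-- `a` moved by `(i, i')`. -/
def mvH (i i' a : Fin 3) : Fin 3 := if a = i' then i else a

/-- The action on the weights of `N` of `x (rt i i') t` (`i, i' < 3`): row `i'` gets `t` times row `i`, column `i'` gets `φ t` times column `i`, up to signs. -/
def actH (φ : K ≃+* K) (p1 p2 : Fin 3 → Fin 3 → Fin 3 → Fin 3 → K) (i i' : Fin 3) (t : K) (h : Fin 3 → Fin 3 → K) : Fin 3 → Fin 3 → K :=
  fun a e => h a e + p1 i i' a e * t * h (mvH i i' a) e + p2 i i' a e * φ t * h a (mvH i i' e)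
    + p1 i i' a e * p2 i i' (mvH i i' a) e * (t * φ t) * h (mvH i i' a) (mvH i i' e)

/-- `s` at `i`, `s⁻¹` at `i'`. -/
def dd (i i' : Fin 3) (s : Kˣ) (a : Fin 3) : Kˣ := if a = i then s else if a = i' then s⁻¹ else 1

end

/-- The relations of `²E₆(q)` we use. `Γ` is the group, `K = F_{q²}`, `φ t = t^q`. -/
structure SysT (K : Type*) [Field K] (φ : K ≃+* K) (Γ : Type*) [Group Γ] where
  x : ℕ → K → Γ
  x_add : ∀ r, r < 72 → ∀ a b, x r (a + b) = x r a * x r b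
  /-- the redundancy -/
  red : ∀ r, r < 72 → ∀ t, x (rhoT r) t = x r (((gamT r : ℤ) : K) * φ t)
  fix_tr : ∀ r, r < 72 → rhoT r = r → ∀ t t', t + φ t = t' + φ t' → x r t = x r t'
  /-- `U` -/
  tt : ∀ T u w, x 71 u * x (gam T) w = x (gam T) w * x 71 u
  uu : ∀ T T', T' ≠ compl3 T → T' ≠ sig (compl3 T) → ∀ u w, x (gam T) u * x (gam T') w = x (gam T') w * x (gam T) u
  eps : S3 → K
  eps_sign : ∀ T, eps T = 1 ∨ eps T = -1
  uc : ∀ T u t, x (gam T) u * x (gam (compl3 T)) t = x (gam (compl3 T)) t * x (gam T) u * x 71 (eps T * (t * lg φ T u))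
  /-- `L` on `U` -/
  sg : Fin 6 → Fin 6 → S3 → K
  sg_sign : ∀ i j T, sg i j T = 1 ∨ sg i j T = -1
  sg_comm : ∀ i j T, i ≠ j → s1 sg i j T * s2 sg i j (mv i j T) = s2 sg i j T * s1 sg i j (mv j.rev i.rev T)
  lt : ∀ i j, i ≠ j → ∀ u w, x 71 u * x (rt i j) w = x (rt i j) w * x 71 u
  lu : ∀ i j, i ≠ j → ∀ T t u, ∃ b, (x (rt i j) t)⁻¹ * x (gam T) u * x (rt i j) t =
    x (gam T) u * x (gam (mv i j T)) (s1 sg i j T * (t * u)) * x (gam (mv j.rev i.rev T)) (s2 sg i j T * (φ t * u))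
      * x (gam (mv j.rev i.rev (mv i j T))) (s1 sg i j T * s2 sg i j (mv i j T) * (t * φ t * u)) * x 71 b
  /-- Weyl elements of `L`: `wL i j = x (rt i j) 1 ...`, an element of `⟨x (rt i j), x (rt j i)⟩` -/
  wL : Fin 6 → Fin 6 → Γ
  w_rt : ∀ i j, i ≠ j → ∃ η : K, (η = 1 ∨ η = -1) ∧ ∀ t, wL i j * x (rt i j) t * (wL i j)⁻¹ = x (rt j i) (η * t)
  w_gam : ∀ i j, i ≠ j → ∀ T, ∃ T', ∃ η : K, (η = 1 ∨ η = -1) ∧ ∀ u, wL i j * x (gam T) u * (wL i j)⁻¹ = x (gam T') (η * u)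
  w_th : ∀ i j, i ≠ j → ∃ η : K, (η = 1 ∨ η = -1) ∧ ∀ u, wL i j * x 71 u * (wL i j)⁻¹ = x 71 (η * u)
  /-- the torus of the long root `rt i (rev i)`, `s` real -/
  hl : Fin 6 → Kˣ → Γ
  hl_gam : ∀ i (s : Kˣ), φ (s : K) = s → ∀ T u, hl i s * x (gam T) u * (hl i s)⁻¹ = x (gam T) (((s ^ pw i i.rev T : Kˣ) : K) * u)
  hl_th : ∀ i (s : Kˣ), φ (s : K) = s → ∀ u, hl i s * x 71 u * (hl i s)⁻¹ = x 71 u
  /-- `h_β`, `c` real -/
  hb : Kˣ → Γ
  hb_mul : ∀ c c' : Kˣ, φ (c : K) = c → φ (c' : K) = c' → hb (c * c') = hb c * hb c'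
  hb_th : ∀ c : Kˣ, φ (c : K) = c → ∀ u, hb c * x 71 u * (hb c)⁻¹ = x 71 ((c : K) * u)
  hb_gam : ∀ T, ∃ e : ℤ, ∀ c : Kˣ, φ (c : K) = c → ∀ u, hb c * x (gam T) u * (hb c)⁻¹ = x (gam T) (((c ^ e : Kˣ) : K) * u)
  hb_β : ∀ c : Kˣ, φ (c : K) = c → ∀ u, hb c * x 46 u * (hb c)⁻¹ = x 46 ((c : K) ^ 2 * u)
  /-- `n_β(1)` -/
  nb : Γ
  nb_eq : ∀ c : Kˣ, φ (c : K) = c → ∀ a a' : K, a + φ a = c → a' + φ a' = -((c : K)⁻¹) → x 46 a * x 25 a' * x 46 a = hb c * nb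
  nb_conj : ∀ r, r < 72 → ∃ η : K, (η = 1 ∨ η = -1) ∧ ∀ u, nb * x r u * nb⁻¹ = x (reflB r) (η * u)
  nb_hb : ∀ c : Kˣ, φ (c : K) = c → nb * hb c * nb⁻¹ = hb c⁻¹
  /-- the long roots of `U/Z` are conjugate to `θ` -/
  lconj : ∀ T, sig T = T → ∃ g : Γ, ∃ η : K, (η = 1 ∨ η = -1) ∧ ∀ u, g * x 71 u * g⁻¹ = x (gam T) (η * u)
  /-- `x 71` generates `Γ` as a normal subgroup -/
  thgen : ∀ N : Subgroup Γ, N.Normal → (∀ u, x 71 u ∈ N) → N = ⊤
  /-- generation -/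
  gen : ∀ N : Subgroup Γ, (∀ i j, i ≠ j → ∀ u, x (rt i j) u ∈ N) → (∀ u, x 46 u ∈ N) → (∀ u, x 25 u ∈ N) → N = ⊤
  /-- The Siegel radical `N` of `L` and its Levi: -/
  lrc : ∀ a e a' e' u v, x (rH a e) u * x (rH a' e') v = x (rH a' e') v * x (rH a e) u
  p1 : Fin 3 → Fin 3 → Fin 3 → Fin 3 → K
  p2 : Fin 3 → Fin 3 → Fin 3 → Fin 3 → K
  p1_sign : ∀ i i' a e, i ≠ i' → a = i' → p1 i i' a e = 1 ∨ p1 i i' a e = -1
  p2_sign : ∀ i i' a e, i ≠ i' → e = i' → p2 i i' a e = 1 ∨ p2 i i' a e = -1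
  p1_zero : ∀ i i' a e, a ≠ i' → p1 i i' a e = 0
  p2_zero : ∀ i i' a e, e ≠ i' → p2 i i' a e = 0
  p_comm : ∀ i i' a e, i ≠ i' → p1 i i' a e * p2 i i' (mvH i i' a) e = p2 i i' a e * p1 i i' a (mvH i i' e)
  lr : ∀ i i' a e, i ≠ i' → ∀ t u, (x (rt (ix i) (ix i')) t)⁻¹ * x (rH a e) u * x (rt (ix i) (ix i')) t =
    x (rH a e) u * x (rH (mvH i i' a) e) (p1 i i' a e * (t * u)) * x (rH a (mvH i i' e)) (p2 i i' a e * (φ t * u))
      * x (rH (mvH i i' a) (mvH i i' e)) (p1 i i' a e * p2 i i' (mvH i i' a) e * (t * φ t * u))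
  /-- The torus of the Levi: `hk i i' s` acts on `rH a e` by `dd a * φ (dd e)`; it normalises all the root groups of `U`. -/
  hk : Fin 3 → Fin 3 → Kˣ → Γ
  hk_rH : ∀ i i' (s : Kˣ) a e u, i ≠ i' → hk i i' s * x (rH a e) u * (hk i i' s)⁻¹ =
    x (rH a e) (((dd i i' s a : Kˣ) : K) * φ ((dd i i' s e : Kˣ) : K) * u)
  hk_gam : ∀ i i' (s : Kˣ) T, i ≠ i' → ∃ a : K, ∀ u, hk i i' s * x (gam T) u * (hk i i' s)⁻¹ = x (gam T) (a * u)
  hk_th : ∀ i i' (s : Kˣ), i ≠ i' → ∃ a : K, ∀ u, hk i i' s * x 71 u * (hk i i' s)⁻¹ = x 71 (a * u)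
  /-- The Levi roots are commutators of the roots of `N` and of its opposite. -/
  cm : ∀ i i' : Fin 3, i ≠ i' → ∃ e : Fin 3, e ≠ i ∧ e ≠ i' ∧ ∃ η : K, (η = 1 ∨ η = -1) ∧ ∀ s t,
    x (rH i e) s * x (rt (ix e).rev (ix i')) t * (x (rH i e) s)⁻¹ * (x (rt (ix e).rev (ix i')) t)⁻¹ = x (rt (ix i) (ix i')) (η * (s * t))

variable {K : Type*} [Field K] {φ : K ≃+* K} {Γ : Type*} [Group Γ] {V : Type*} [AddCommGroup V] [Module ℂ V]

/-- `K = F_{q²}`, `φ t = t^q`. -/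
structure QF (K : Type*) [Field K] [Fintype K] (φ : K ≃+* K) (q : ℕ) : Prop where
  card : Fintype.card K = q ^ 2
  pow : ∀ t, φ t = t ^ q
  two : 2 ≤ q

/-- The additive characters we use: `ψ = ψ₀ ∘ trace`, nontrivial. -/
structure GoodChar (φ : K ≃+* K) (ψ : AddChar K ℂ) : Prop where
  ne : ψ ≠ 1
  tr : ∀ t, t + φ t = 0 → ψ t = 1

/-- The simultaneous eigenspace of the root groups in the list `l`: `x_r(u)` acts by `ψ (a * u)` for `(r, a) ∈ l`. -/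
def Wt (S : SysT K φ Γ) (ρ : Representation ℂ Γ V) (ψ : AddChar K ℂ) (l : List (ℕ × K)) : Submodule ℂ V where
  carrier := {v | ∀ p ∈ l, ∀ u, ρ (S.x p.1 u) v = ψ (p.2 * u) • v}
  add_mem' := by
    intro a b ha hb p hp u
    rw [map_add, ha p hp u, hb p hp u, smul_add]
  zero_mem' := by
    intro p hp u
    simp
  smul_mem' := by
    intro c v hv p hp u
    rw [map_smul, hv p hp u, smul_comm]

lemma mem_Wt {S : SysT K φ Γ} {ρ : Representation ℂ Γ V} {ψ : AddChar K ℂ} {l : List (ℕ × K)} {v : V} :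
    v ∈ Wt S ρ ψ l ↔ ∀ p ∈ l, ∀ u, ρ (S.x p.1 u) v = ψ (p.2 * u) • v := Iff.rfl

/-- The dimension of a weight space. -/
noncomputable def wr (S : SysT K φ Γ) (ρ : Representation ℂ Γ V) (ψ : AddChar K ℂ) (l : List (ℕ × K)) : ℕ :=
  finrank ℂ (Wt S ρ ψ l)

/-- The list of the weight `c` on `U`, trivial on `x 71`. -/
noncomputable def clist (c : S3 → K) : List (ℕ × K) :=
  (71, 0) :: (Finset.univ.toList.map fun T : S3 => (gam T, c T))

lemma mem_clist {c : S3 → K} {p : ℕ × K} : p ∈ clist c ↔ p = (71, 0) ∨ ∃ T, p = (gam T, c T) := by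
  simp [clist, eq_comm]

/-- The dimension of the weight space of `c` in the fixed vectors of `x 71`. -/
noncomputable def nfE (S : SysT K φ Γ) (ρ : Representation ℂ Γ V) (ψ : AddChar K ℂ) (c : S3 → K) : ℕ :=
  wr S ρ ψ (clist c)

/-- The list of the weight `h` of `N` in `R = Wt (clist 0)`. -/
noncomputable def hlist (h : Fin 3 → Fin 3 → K) : List (ℕ × K) :=
  clist 0 ++ ((Finset.univ : Finset (Fin 3 × Fin 3)).toList.map fun p => (rH p.1 p.2, h p.1 p.2))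

/-- The dimension of the weight space of `h` in `R`. -/
noncomputable def nfH (S : SysT K φ Γ) (ρ : Representation ℂ Γ V) (ψ : AddChar K ℂ) (h : Fin 3 → Fin 3 → K) : ℕ :=
  wr S ρ ψ (hlist h)

/-- No nonzero vector is fixed by the generators. -/
def NoFix (S : SysT K φ Γ) (ρ : Representation ℂ Γ V) : Prop :=
  ∀ v : V, (∀ i j, i ≠ j → ∀ u, ρ (S.x (rt i j) u) v = v) → (∀ u, ρ (S.x 46 u) v = v) → (∀ u, ρ (S.x 25 u) v = v) → v = 0

/-- The number of totally isotropic 3-spaces of the hermitian 6-space. -/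
def gaussT (q : ℕ) : ℕ := (q + 1) * (q ^ 3 + 1) * (q ^ 5 + 1)

/-- The degree without the fixed vectors of `U`. -/
def k0 (q : ℕ) : ℕ := (q - 1) * q ^ 10 + (q - 1) * gaussT q

/-- The bound. -/
def BB (q : ℕ) : ℕ := q * (q ^ 6 - q ^ 3 + 1) * (q ^ 4 + 1)

/-- The size of the smallest orbit of `GL₃(K)` on nonzero Hermitian matrices: `(q⁶-1)/(q+1)`. -/
def Wq (q : ℕ) : ℕ := (q - 1) * (q ^ 4 + q ^ 2 + 1)

/-- A multiple of the order of the group. -/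
def NN (q : ℕ) : ℕ := q ^ 36 * ((q ^ 2 - 1) * (q ^ 5 + 1) * (q ^ 6 - 1) * (q ^ 8 - 1) * (q ^ 9 + 1) * (q ^ 12 - 1))

end Cfsg.Agent.Lib.Min2E6
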